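import Cfsg.Agent.CpAut.Descent
import Cfsg.Agent.H533.T5.SporDefs_m3
import Cfsg.Agent.H951.SBridge
import Cfsg.Agent.H458.SpAut
import Cfsg.Agent.H458.RowPSp
import Cfsg.Agent.CpAut.OrthRow
import Cfsg.Agent.S2712
import Cfsg.Agent.LieRecognition.FieldSemilinear
import Cfsg.Agent.FastGrp
import Cfsg.Agent.Prune
set_option linter.all false
prune_inst 0x7ffdf9ffbbf86ddedfff7fffafbedffc39925fffafdff94bffe0ebff1fff030049e5fbad0df090fe1ff6401410b87813f97eeeffab6bd87ffffd1ff45ffbee0f8567bd0951d68c340fbc2fff63f0778e7f3fffffffffffffffffffffffffffaeffbdffffffff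
open scoped Cfsg.Agent.FastGrp

-- part: H862/T5/SmallDim
section
/-!
# p-groups of semilinear maps in dimension less than p

`key` : if `y b y⁻¹ = z b` with `b, z` commuting linear maps of order dividing `p`, `y` semilinear commuting with `z`,
and `dim V < p`, then `z = 1`.
-/

set_option autoImplicit false

namespace Cfsg.Agent.H862.T5.SmallDim

open Cfsg.Agent.CpAut.Descent (Semi)
open Finset

variable {F V : Type*} [Field F] [AddCommGroup V] [Module F V]

/-- the sum of the powers -/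
def E (p : ℕ) (g : Equiv.Perm V) (v : V) : V := ∑ k ∈ range p, (g ^ k) v

theorem lin_pow {g : Equiv.Perm V} (hg : Semi g (1 : F ≃+* F)) (k : ℕ) : Semi (g ^ k) (1 : F ≃+* F) := by
  have h := hg.pow k
  rwa [one_pow] at h

theorem smul_one {g : Equiv.Perm V} (hg : Semi g (1 : F ≃+* F)) (a : F) (v : V) : g (a • v) = a • g v :=
  hg.smul a v

theorem E_add {p : ℕ} {g : Equiv.Perm V} (hg : Semi g (1 : F ≃+* F)) (u v : V) : E p g (u + v) = E p g u + E p g v := by
  unfold E
  rw [← sum_add_distrib]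
  exact sum_congr rfl fun k _ => (lin_pow hg k).add u v

theorem E_smul {p : ℕ} {g : Equiv.Perm V} (hg : Semi g (1 : F ≃+* F)) (a : F) (v : V) :
    E p g (a • v) = a • E p g v := by
  unfold E
  rw [smul_sum]
  exact sum_congr rfl fun k _ => smul_one (lin_pow hg k) a v

theorem E_zero {p : ℕ} {g : Equiv.Perm V} (hg : Semi g (1 : F ≃+* F)) : E p g (0 : V) = 0 := by
  have h := E_smul (p := p) hg 0 0
  rwa [zero_smul, zero_smul] at h

theorem map_E {p : ℕ} {g h : Equiv.Perm V} {σ : F ≃+* F} (hh : Semi h σ) (hgh : h * g = g * h) (v : V) :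
    h (E p g v) = E p g (h v) := by
  unfold E
  rw [hh.map_sum]
  refine sum_congr rfl fun k _ => ?_
  have h1 : h * g ^ k = g ^ k * h := (Commute.pow_right (show Commute h g from hgh) k).eq
  exact congrArg (fun f : Equiv.Perm V => f v) h1

theorem fix_E {p : ℕ} {g : Equiv.Perm V} (hg : Semi g (1 : F ≃+* F)) (hp : g ^ p = 1) (v : V) :
    g (E p g v) = E p g v := by
  unfold E
  rw [hg.map_sum]
  have h1 : ∑ k ∈ range p, g ((g ^ k) v) = ∑ k ∈ range p, (g ^ (k + 1)) v := by
    refine sum_congr rfl fun k _ => ?_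
    rw [pow_succ', Equiv.Perm.mul_apply]
  rw [h1]
  have h2 := sum_range_succ (fun k => (g ^ k) v) p
  have h3 := sum_range_succ' (fun k => (g ^ k) v) p
  rw [h2] at h3
  rw [hp, pow_zero] at h3
  exact (add_right_cancel h3).symm

theorem E_of_fix {p : ℕ} {g : Equiv.Perm V} {v : V} (h : g v = v) : E p g v = p • v := by
  unfold E
  have h1 : ∀ k, (g ^ k) v = v := by
    intro k
    induction k with
    | zero => rfl
    | succ k ih => rw [pow_succ', Equiv.Perm.mul_apply, ih, h]
  rw [sum_congr rfl fun k _ => h1 k, sum_const, card_range]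

theorem E_sub {p : ℕ} {g : Equiv.Perm V} (hg : Semi g (1 : F ≃+* F)) (hp : g ^ p = 1) (v : V) :
    E p g (g v - v) = 0 := by
  have h1 : g v - v = g v + (-1 : F) • v := by rw [neg_one_smul, sub_eq_add_neg]
  rw [h1, E_add hg, E_smul hg, ← map_E hg rfl, fix_E hg hp, neg_one_smul, add_neg_cancel]

theorem nsmul_eq (n : ℕ) (v : V) : n • v = (n : F) • v := (Nat.cast_smul_eq_nsmul F n v).symm

/-- reindexing of the powers -/
theorem sum_reindex {p : ℕ} (hp : p.Prime) {z : Equiv.Perm V} (hz : z ^ p = 1) {k : ℕ} (hk : k < p) (hk0 : k ≠ 0)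
    (v : V) : ∑ i ∈ range p, (z ^ (i * k)) v = E p z v := by
  have hmod : ∀ n, z ^ n = z ^ (n % p) := by
    intro n
    conv_lhs => rw [← Nat.mod_add_div n p, pow_add, pow_mul, hz, one_pow, mul_one]
  have hcop : Nat.Coprime k p := ((hp.coprime_iff_not_dvd).2 fun h => hk0 (Nat.eq_zero_of_dvd_of_lt h hk)).symm
  unfold E
  refine sum_bij (fun i _ => (i * k) % p) ?_ ?_ ?_ ?_
  · intro i _
    exact mem_range.2 (Nat.mod_lt _ hp.pos)
  · intro i hi j hj hij
    have h1 : i * k ≡ j * k [MOD p] := hij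
    have h2 := Nat.ModEq.cancel_right_of_coprime hcop.symm h1
    have h3 : i % p = j % p := h2
    rwa [Nat.mod_eq_of_lt (mem_range.1 hi), Nat.mod_eq_of_lt (mem_range.1 hj)] at h3
  · intro j hj
    obtain ⟨m, hm0, hm⟩ := Nat.exists_mul_mod_eq_of_coprime j hcop hp.ne_zero
    refine ⟨m, mem_range.2 hm0, ?_⟩
    rw [mul_comm, hm, Nat.mod_eq_of_lt (mem_range.1 hj)]
  · intro i _
    rw [hmod]

/-- **The key lemma.** -/
theorem key [FiniteDimensional F V] {p : ℕ} (hp : p.Prime) (hpF : (p : F) ≠ 0) (hd : Module.finrank F V < p)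
    {b z y : Equiv.Perm V} {σ : F ≃+* F} (hb : Semi b (1 : F ≃+* F)) (hz : Semi z (1 : F ≃+* F)) (hy : Semi y σ)
    (hbp : b ^ p = 1) (hzp : z ^ p = 1) (hbz : b * z = z * b) (hy1 : y * b = z * b * y) (hy2 : y * z = z * y) :
    z = 1 := by
  by_contra hne
  obtain ⟨v₀, hv₀⟩ : ∃ v, z v ≠ v := by
    by_contra hall
    push Not at hall
    exact hne (Equiv.ext hall)
  -- the conjugates
  let B : ℕ → Equiv.Perm V := fun i => z ^ i * b
  have hzb : ∀ i, Commute (z ^ i) b := fun i => (Commute.pow_right (show Commute b z from hbz) i).symm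
  have hBlin : ∀ i, Semi (B i) (1 : F ≃+* F) := fun i => by
    have h := (lin_pow hz i).mul hb
    rwa [one_mul] at h
  have hBp : ∀ i, B i ^ p = 1 := by
    intro i
    show (z ^ i * b) ^ p = 1
    rw [(hzb i).mul_pow, hbp, ← pow_mul, mul_comm i p, pow_mul, hzp, one_pow, one_mul]
  have hBz : ∀ i, z * B i = B i * z := by
    intro i
    show z * (z ^ i * b) = z ^ i * b * z
    rw [← mul_assoc, ← pow_succ', pow_succ, mul_assoc, mul_assoc, hbz]
  have hBB : ∀ i j, B i * B j = B j * B i := by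
    intro i j
    show z ^ i * b * (z ^ j * b) = z ^ j * b * (z ^ i * b)
    have h1 : z ^ i * b * (z ^ j * b) = z ^ i * (b * z ^ j) * b := by group
    have h2 : z ^ j * b * (z ^ i * b) = z ^ j * (b * z ^ i) * b := by group
    rw [h1, h2, ← (hzb j).eq, ← (hzb i).eq, ← mul_assoc (z ^ i), ← mul_assoc (z ^ j), ← pow_add, ← pow_add,
      add_comm]
  have hyB : ∀ i, y * B i = B (i + 1) * y := by
    intro i
    show y * (z ^ i * b) = z ^ (i + 1) * b * y
    have h1 : y * z ^ i = z ^ i * y := (Commute.pow_right (show Commute y z from hy2) i).eq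
    rw [← mul_assoc, h1, mul_assoc, hy1, pow_succ]
    group
  have hyn : ∀ n i, y ^ n * B i = B (i + n) * y ^ n := by
    intro n
    induction n with
    | zero => intro i; rw [pow_zero, one_mul, mul_one, add_zero]
    | succ n ih =>
      intro i
      rw [pow_succ, mul_assoc, hyB, ← mul_assoc, ih, mul_assoc, ← pow_succ]
      have : i + 1 + n = i + (n + 1) := by omega
      rw [this]
  -- the sum
  set f : V := z v₀ - v₀ with hf
  have hf0 : f ≠ 0 := sub_ne_zero.2 hv₀
  have hEf : E p z f = 0 := E_sub hz hzp v₀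
  have hsum : ∑ i ∈ range p, E p (B i) f = p • f := by
    have h1 : ∑ i ∈ range p, E p (B i) f = ∑ k ∈ range p, ∑ i ∈ range p, (z ^ (i * k)) ((b ^ k) f) := by
      rw [sum_comm]
      refine sum_congr rfl fun i _ => ?_
      unfold E
      refine sum_congr rfl fun k _ => ?_
      show ((z ^ i * b) ^ k) f = (z ^ (i * k)) ((b ^ k) f)
      rw [(hzb i).mul_pow, ← pow_mul]
      rfl
    rw [h1, sum_eq_single 0]
    · simp only [_root_.MulZeroClass.mul_zero, _root_.pow_zero, _root_.Equiv.Perm.coe_one, _root_.id_eq, _root_.Finset.sum_const, _root_.Finset.card_range]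
    · intro k hk hk0
      rw [sum_reindex hp hzp (mem_range.1 hk) hk0]
      have h3 : b ^ k * z = z * b ^ k := (Commute.pow_left (show Commute b z from hbz) k).eq
      have h2 : (b ^ k) (E p z f) = E p z ((b ^ k) f) := map_E (lin_pow hb k) h3 f
      rw [← h2, hEf, (lin_pow hb k).map_zero]
    · intro h
      exact absurd (mem_range.2 hp.pos) h
  obtain ⟨i, hi⟩ : ∃ i, E p (B i) f ≠ 0 := by
    by_contra hall
    push Not at hall
    rw [sum_eq_zero fun i _ => hall i, nsmul_eq (F := F)] at hsum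
    exact (smul_ne_zero hpF hf0) hsum.symm
  set w : V := E p (B i) f with hw
  have hBw : B i w = w := fix_E (hBlin i) (hBp i) f
  have hEw : E p z w = 0 := by
    have h1 : E p z w = E p (B i) (E p z f) := by
      rw [hw]
      unfold E
      have h2 : ∀ k, (z ^ k) (∑ l ∈ range p, (B i ^ l) f) = ∑ l ∈ range p, (B i ^ l) ((z ^ k) f) := by
        intro k
        rw [(lin_pow hz k).map_sum]
        refine sum_congr rfl fun l _ => ?_
        have h3 : z ^ k * B i ^ l = B i ^ l * z ^ k := ((show Commute z (B i) from hBz i).pow_pow k l).eq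
        exact congrArg (fun g : Equiv.Perm V => g f) h3
      rw [sum_congr rfl fun k _ => h2 k, sum_comm]
      refine sum_congr rfl fun l _ => ?_
      rw [(lin_pow (hBlin i) l).map_sum]
    rw [h1, hEf, E_zero (hBlin i)]
  have hyz : ∀ n, y ^ n * z = z * y ^ n := fun n => (Commute.pow_left (show Commute y z from hy2) n).eq
  -- the vectors
  let W : ℕ → V := fun n => (y ^ n) w
  have hW0 : ∀ n, W n ≠ 0 := by
    intro n h
    apply hi
    apply (y ^ n).injective
    rw [(hy.pow n).map_zero]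
    exact h
  have hBW : ∀ n, B (i + n) (W n) = W n := by
    intro n
    have h1 := congrArg (fun g : Equiv.Perm V => g w) (hyn n i)
    simp only [Equiv.Perm.mul_apply] at h1
    rw [hBw] at h1
    exact h1.symm
  have hEW : ∀ n, E p z (W n) = 0 := by
    intro n
    show E p z ((y ^ n) w) = 0
    rw [← map_E (hy.pow n) (hyz n), hEw, (hy.pow n).map_zero]
  -- orthogonality
  have hort : ∀ m n, m < p → n < p → m ≠ n → E p (B (i + m)) (W n) = 0 := by
    intro m n hm hn hmn
    set u : V := E p (B (i + m)) (W n) with hu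
    have hu1 : B (i + m) u = u := fix_E (hBlin _) (hBp _) _
    have hu2 : B (i + n) u = u := by
      rw [hu, map_E (hBlin (i + n)) (hBB _ _), hBW]
    have hEu : E p z u = 0 := by
      have h1 : E p z u = E p (B (i + m)) (E p z (W n)) := by
        rw [hu]
        unfold E
        have h2 : ∀ k, (z ^ k) (∑ l ∈ range p, (B (i + m) ^ l) (W n)) =
            ∑ l ∈ range p, (B (i + m) ^ l) ((z ^ k) (W n)) := by
          intro k
          rw [(lin_pow hz k).map_sum]
          refine sum_congr rfl fun l _ => ?_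
          have h3 : z ^ k * B (i + m) ^ l = B (i + m) ^ l * z ^ k :=
            ((show Commute z (B (i + m)) from hBz _).pow_pow k l).eq
          exact congrArg (fun g : Equiv.Perm V => g (W n)) h3
        rw [sum_congr rfl fun k _ => h2 k, sum_comm]
        refine sum_congr rfl fun l _ => ?_
        rw [(lin_pow (hBlin _) l).map_sum]
      rw [h1, hEW, E_zero (hBlin _)]
    -- z fixes u
    have hzu : ∀ {m n : ℕ}, n < p → m < n → B (i + m) u = u → B (i + n) u = u → z u = u := by
      intro m n hn hmn h1 h2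
      have h3 : (z ^ (n - m)) u = u := by
        have h4 : B (i + n) = z ^ (n - m) * B (i + m) := by
          show z ^ (i + n) * b = z ^ (n - m) * (z ^ (i + m) * b)
          rw [← mul_assoc, ← pow_add]
          congr 2
          omega
        rw [h4, Equiv.Perm.mul_apply, h1] at h2
        exact h2
      have h5 : Nat.Coprime (n - m) p :=
        ((hp.coprime_iff_not_dvd).2 fun h => by
          have := Nat.le_of_dvd (by omega) h
          omega).symm
      obtain ⟨k, -, hk⟩ := Nat.exists_mul_mod_eq_one_of_coprime h5 hp.one_lt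
      have h6 : ∀ k : ℕ, (z ^ ((n - m) * k)) u = u := by
        intro k
        rw [pow_mul]
        induction k with
        | zero => rfl
        | succ k ih => rw [pow_succ', Equiv.Perm.mul_apply, ih, h3]
      have h7 : z ^ ((n - m) * k) = z := by
        conv_lhs => rw [← Nat.mod_add_div ((n - m) * k) p, pow_add, pow_mul, hzp, one_pow, mul_one, hk, pow_one]
      have h8 := h6 k
      rwa [h7] at h8
    have hz1 : z u = u := by
      rcases Nat.lt_or_gt_of_ne hmn with h | h
      · exact hzu hn h hu1 hu2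
      · exact hzu hm h hu2 hu1
    rw [E_of_fix hz1, nsmul_eq (F := F)] at hEu
    exact (smul_eq_zero.1 hEu).resolve_left hpF
  have hli : LinearIndependent F (fun n : Fin p => W n) := by
    rw [Fintype.linearIndependent_iff]
    intro g hg m
    have h1 : E p (B (i + m)) (∑ n : Fin p, g n • W n) = 0 := by
      rw [hg, E_zero (hBlin _)]
    have h2 : E p (B (i + m)) (∑ n : Fin p, g n • W n) = ∑ n : Fin p, g n • E p (B (i + m)) (W n) := by
      have h3 : ∀ (s : Finset (Fin p)), E p (B (i + m)) (∑ n ∈ s, g n • W n) =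
          ∑ n ∈ s, g n • E p (B (i + m)) (W n) := by
        intro s
        induction s using Finset.induction_on with
        | empty => rw [sum_empty, sum_empty, E_zero (hBlin _)]
        | insert a s ha ih => rw [sum_insert ha, sum_insert ha, E_add (hBlin _), E_smul (hBlin _), ih]
      exact h3 _
    rw [h2, sum_eq_single m] at h1
    · rw [E_of_fix (hBW m), nsmul_eq (F := F), smul_smul] at h1
      rcases smul_eq_zero.1 h1 with h4 | h4
      · exact (mul_eq_zero.1 h4).resolve_right hpF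
      · exact absurd h4 (hW0 _)
    · intro n _ hnm
      rw [hort m n m.2 n.2 (fun h => hnm (Fin.ext h).symm), smul_zero]
    · intro h
      exact absurd (mem_univ _) h
  have h1 := hli.fintype_card_le_finrank
  rw [Fintype.card_fin] at h1
  omega

/-! ### Commuting conjugates -/

section abstract

variable {G : Type*} [Group G]

/-- the iterated commutators with `y` -/
def it (x y : G) : ℕ → G
  | 0 => x
  | n + 1 => y * it x y n * y⁻¹ * (it x y n)⁻¹

open Polynomial in
theorem sub_pow_end {p : ℕ} [Fact p.Prime] {A : Type*} [AddCommGroup A] [Module (ZMod p) A] (φ : Module.End (ZMod p) A) :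
    (φ - 1) ^ p = φ ^ p - 1 := by
  have h : ((X : (ZMod p)[X]) - 1) ^ p = X ^ p - 1 := by
    rw [sub_pow_char, one_pow]
  have h2 := congrArg (aeval φ) h
  simpa using h2

theorem it_add {p : ℕ} [Fact p.Prime] {A : Type*} [AddCommGroup A] [Module (ZMod p) A] (φ : A →+ A)
    (hφ : ∀ a, (φ^[p]) a = a) (f : ℕ → A) (hf : ∀ n, f (n + 1) = φ (f n) - f n) : f p = 0 := by
  let L : Module.End (ZMod p) A := φ.toZModLinearMap p
  have hL : ∀ a : A, L a = φ a := fun a => rfl
  have hLn : ∀ (n : ℕ) (a : A), (L ^ n) a = (φ^[n]) a := by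
    intro n
    induction n with
    | zero => intro a; rfl
    | succ n ih => intro a; rw [pow_succ, Module.End.mul_apply, hL, ih, Function.iterate_succ_apply]
  have hN : (L - 1) ^ p = 0 := by
    rw [sub_pow_end, sub_eq_zero]
    ext a
    exact (hLn p a).trans (hφ _)
  have hfn : ∀ n, f n = ((L - 1) ^ n) (f 0) := by
    intro n
    induction n with
    | zero => rfl
    | succ n ih =>
      rw [pow_succ', Module.End.mul_apply, ← ih, hf]
      rfl
  rw [hfn p, hN, LinearMap.zero_apply]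

theorem it_eq_one_aux {p : ℕ} [Fact p.Prime] {A : Type*} [CommGroup A] (hA : ∀ a : A, a ^ p = 1) (φ : A →* A)
    (hφ : ∀ a, (φ^[p]) a = a) (f : ℕ → A) (hf : ∀ n, f (n + 1) = φ (f n) * (f n)⁻¹) : f p = 1 := by
  let _ : Module (ZMod p) (Additive A) := AddCommGroup.zmodModule (n := p) (fun x => by
    exact hA x.toMul)
  have h := it_add (p := p) (A := Additive A) (MonoidHom.toAdditive φ) (fun a => hφ a.toMul)
    (fun n => Additive.ofMul (f n)) (fun n => by
      show Additive.ofMul (f (n + 1)) = Additive.ofMul (φ (f n)) - Additive.ofMul (f n)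
      rw [hf, sub_eq_add_neg]
      rfl)
  exact h

/-- the group generated by the conjugates of `x` under the powers of `y` -/
def K (x y : G) : Subgroup G := Subgroup.closure (Set.range fun i : ℕ => y ^ i * x * (y ^ i)⁻¹)

theorem mem_K (x y : G) (i : ℕ) : y ^ i * x * (y ^ i)⁻¹ ∈ K x y := Subgroup.subset_closure ⟨i, rfl⟩

theorem self_mem_K (x y : G) : x ∈ K x y := by
  have h := mem_K x y 0
  simpa using h

/-- the conjugates commute -/
def Cj (x y : G) : Prop := ∀ i j : ℕ, (y ^ i * x * (y ^ i)⁻¹) * (y ^ j * x * (y ^ j)⁻¹) =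
      (y ^ j * x * (y ^ j)⁻¹) * (y ^ i * x * (y ^ i)⁻¹)

theorem Cj.comm {x y : G} (hc : Cj x y) : IsMulCommutative (K x y) := by
  apply Subgroup.isMulCommutative_closure
  rintro _ ⟨i, rfl⟩ _ ⟨j, rfl⟩
  exact hc i j

theorem Cj.pow {x y : G} (hc : Cj x y) {p : ℕ} (hxp : x ^ p = 1) {a : G} (ha : a ∈ K x y) : a ^ p = 1 := by
  have hcomm := hc.comm
  induction ha using Subgroup.closure_induction with
  | mem a ha =>
    obtain ⟨i, rfl⟩ := ha
    show (y ^ i * x * (y ^ i)⁻¹) ^ p = 1
    rw [conj_pow, hxp, mul_one, mul_inv_cancel]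
  | one => exact one_pow p
  | mul a b ha hb h1 h2 =>
    have h3 : Commute a b := congrArg Subtype.val (hcomm.is_comm.comm (⟨a, ha⟩ : K x y) ⟨b, hb⟩)
    rw [h3.mul_pow, h1, h2, one_mul]
  | inv a ha h1 => rw [inv_pow, h1, inv_one]

theorem conj_mem_K {x y a : G} (ha : a ∈ K x y) : y * a * y⁻¹ ∈ K x y := by
  induction ha using Subgroup.closure_induction with
  | mem a ha =>
    obtain ⟨i, rfl⟩ := ha
    apply Subgroup.subset_closure
    refine ⟨i + 1, ?_⟩
    show y ^ (i + 1) * x * (y ^ (i + 1))⁻¹ = y * (y ^ i * x * (y ^ i)⁻¹) * y⁻¹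
    rw [pow_succ']
    group
  | one => rw [mul_one, mul_inv_cancel]; exact one_mem _
  | mul a b _ _ h1 h2 =>
    have : y * (a * b) * y⁻¹ = (y * a * y⁻¹) * (y * b * y⁻¹) := by group
    rw [this]
    exact mul_mem h1 h2
  | inv a _ h1 =>
    have : y * a⁻¹ * y⁻¹ = (y * a * y⁻¹)⁻¹ := by group
    rw [this]
    exact inv_mem h1

theorem it_mem_K (x y : G) (n : ℕ) : it x y n ∈ K x y := by
  induction n with
  | zero => exact self_mem_K x y
  | succ n ih => exact mul_mem (conj_mem_K ih) (inv_mem ih)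

theorem commute_of_mem_K {x y : G} {p : ℕ} (hyx : y ^ p * x = x * y ^ p) {a : G} (ha : a ∈ K x y) :
    y ^ p * a = a * y ^ p := by
  induction ha using Subgroup.closure_induction with
  | mem a ha =>
    obtain ⟨i, rfl⟩ := ha
    have h1 : y ^ p * y ^ i = y ^ i * y ^ p := by rw [← pow_add, ← pow_add, add_comm]
    have h2 : y ^ p * (y ^ i)⁻¹ = (y ^ i)⁻¹ * y ^ p := by
      rw [mul_inv_eq_iff_eq_mul, mul_assoc, h1, inv_mul_cancel_left]
    show y ^ p * (y ^ i * x * (y ^ i)⁻¹) = y ^ i * x * (y ^ i)⁻¹ * y ^ p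
    calc y ^ p * (y ^ i * x * (y ^ i)⁻¹) = (y ^ p * y ^ i) * x * (y ^ i)⁻¹ := by group
      _ = y ^ i * (y ^ p * x) * (y ^ i)⁻¹ := by rw [h1]; group
      _ = y ^ i * x * (y ^ p * (y ^ i)⁻¹) := by rw [hyx]; group
      _ = y ^ i * x * (y ^ i)⁻¹ * y ^ p := by rw [h2]; group
  | one => rw [mul_one, one_mul]
  | mul a b _ _ h1 h2 => rw [← mul_assoc, h1, mul_assoc, h2, mul_assoc]
  | inv a _ h1 => exact (Commute.inv_right (show Commute (y ^ p) a from h1)).eq

/-- In an abelian group of exponent `p` an automorphism of order dividing `p` acts unipotently. -/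
theorem it_eq_one {p : ℕ} [Fact p.Prime] {x y : G} (hxp : x ^ p = 1) (hyx : y ^ p * x = x * y ^ p)
    (hc : Cj x y) : it x y p = 1 := by
  have hcomm := hc.comm
  let _ : CommGroup (K x y) := { (inferInstance : Group (K x y)) with
    mul_comm := hcomm.is_comm.comm }
  let φ : K x y →* K x y :=
    { toFun := fun a => ⟨y * a * y⁻¹, conj_mem_K a.2⟩
      map_one' := Subtype.ext (by simp)
      map_mul' := fun a b => Subtype.ext (by
        show y * (a.1 * b.1) * y⁻¹ = (y * a * y⁻¹) * (y * b * y⁻¹)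
        group) }
  have hφn : ∀ (n : ℕ) (a : K x y), (((φ^[n]) a : K x y) : G) = y ^ n * a * (y ^ n)⁻¹ := by
    intro n
    induction n with
    | zero => intro a; simp
    | succ n ih =>
      intro a
      rw [Function.iterate_succ_apply, ih]
      show y ^ n * (y * a * y⁻¹) * (y ^ n)⁻¹ = _
      rw [pow_succ]
      group
  have hφ : ∀ a, (φ^[p]) a = a := by
    intro a
    apply Subtype.ext
    rw [hφn, mul_inv_eq_iff_eq_mul]
    exact commute_of_mem_K hyx a.2
  have h := it_eq_one_aux (fun a => Subtype.ext (hc.pow hxp a.2)) φ hφ (fun n => ⟨it x y n, it_mem_K x y n⟩)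
    (fun n => rfl)
  exact congrArg Subtype.val h

theorem nilpotent_of_le {H K : Subgroup G} (hK : Group.IsNilpotent K) (h : H ≤ K) : Group.IsNilpotent H :=
  (Group.isNilpotent_congr (Subgroup.subgroupOfEquivOfLe h)).1 inferInstance

end abstract

theorem lin_of_mem_K {x y : Equiv.Perm V} {σ : F ≃+* F} (hx : Semi x (1 : F ≃+* F)) (hy : Semi y σ) {a : Equiv.Perm V}
    (ha : a ∈ K x y) : Semi a (1 : F ≃+* F) := by
  induction ha using Subgroup.closure_induction with
  | mem a ha =>
    obtain ⟨i, rfl⟩ := ha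
    have h := ((hy.pow i).mul hx).mul (hy.pow i).inv
    rwa [mul_one, mul_inv_cancel] at h
  | one => exact Semi.one
  | mul a b _ _ h1 h2 =>
    have h := h1.mul h2
    rwa [mul_one] at h
  | inv a _ h1 =>
    have h := h1.inv
    rwa [inv_one] at h

/-- If the conjugates of `x` under the powers of `y` commute then `y` commutes with `x`. -/
theorem comm_of_Cj [FiniteDimensional F V] {p : ℕ} [hp : Fact p.Prime] (hpF : (p : F) ≠ 0)
    (hd : Module.finrank F V < p) {x y : Equiv.Perm V} {σ : F ≃+* F} (hx : Semi x (1 : F ≃+* F)) (hy : Semi y σ)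
    (hxp : x ^ p = 1) (hyx : y ^ p * x = x * y ^ p) (hc : Cj x y) : y * x = x * y := by
  classical
  have hex : ∃ n, it x y n = 1 := ⟨p, it_eq_one hxp hyx hc⟩
  have hcomm := hc.comm
  obtain ⟨n, hn, hmin⟩ : ∃ n, it x y n = 1 ∧ ∀ m < n, it x y m ≠ 1 := ⟨Nat.find hex, Nat.find_spec hex,
    fun m hm => Nat.find_min hex hm⟩
  rcases n with - | n
  · have h : x = 1 := hn
    rw [h, mul_one, one_mul]
  rcases n with - | n
  · have h : y * x * y⁻¹ * x⁻¹ = 1 := hn
    rw [mul_inv_eq_one, mul_inv_eq_iff_eq_mul] at h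
    exact h
  exfalso
  apply hmin (n + 1) (by omega)
  have hb := it_mem_K x y n
  have hz := it_mem_K x y (n + 1)
  refine key hp.out hpF hd (b := it x y n) (z := it x y (n + 1)) (y := y) (lin_of_mem_K hx hy hb)
    (lin_of_mem_K hx hy hz) hy (hc.pow hxp hb) (hc.pow hxp hz) ?_ ?_ ?_
  · exact congrArg Subtype.val (hcomm.is_comm.comm (⟨_, hb⟩ : K x y) ⟨_, hz⟩)
  · show y * it x y n = y * it x y n * y⁻¹ * (it x y n)⁻¹ * it x y n * y
    group
  · have h : y * it x y (n + 1) * y⁻¹ * (it x y (n + 1))⁻¹ = 1 := hn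
    rw [mul_inv_eq_one, mul_inv_eq_iff_eq_mul] at h
    exact h

/-- Two linear maps of order dividing `p` generating a nilpotent group commute. -/
theorem comm_of_nilpotent [Finite V] [FiniteDimensional F V] {p : ℕ} [hp : Fact p.Prime] (hpF : (p : F) ≠ 0)
    (hd : Module.finrank F V < p) (n : ℕ) : ∀ {x y : Equiv.Perm V}, Semi x (1 : F ≃+* F) → Semi y (1 : F ≃+* F) →
    x ^ p = 1 → y ^ p = 1 → Group.IsNilpotent (Subgroup.closure {x, y}) → Nat.card (Subgroup.closure {x, y}) ≤ n →
    y * x = x * y := by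
  induction n with
  | zero =>
    intro x y _ _ _ _ _ h
    have : 0 < Nat.card (Subgroup.closure {x, y}) := Nat.card_pos
    omega
  | succ n ih =>
    intro x y hx hy hxp hyp hN hcard
    set G := Subgroup.closure ({x, y} : Set (Equiv.Perm V)) with hG
    have hxG : x ∈ G := Subgroup.subset_closure (by simp)
    have hyG : y ∈ G := Subgroup.subset_closure (by simp)
    by_cases htop : Subgroup.zpowers (⟨x, hxG⟩ : G) = ⊤
    · have h1 : (⟨y, hyG⟩ : G) ∈ Subgroup.zpowers (⟨x, hxG⟩ : G) := by rw [htop]; trivial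
      obtain ⟨k, hk⟩ := Subgroup.mem_zpowers_iff.1 h1
      have h2 : x ^ k = y := congrArg Subtype.val hk
      rw [← h2]
      exact ((Commute.refl x).zpow_left k).eq
    · obtain ⟨M, hM, hxM⟩ := (eq_top_or_exists_le_coatom (Subgroup.zpowers (⟨x, hxG⟩ : G))).resolve_left htop
      have hMn : M.Normal := Subgroup.NormalizerCondition.normal_of_coatom M Group.normalizerCondition_of_isNilpotent hM
      have hx1 : (⟨x, hxG⟩ : G) ∈ M := hxM (Subgroup.mem_zpowers _)
      have hconj : ∀ i : ℕ, y ^ i * x * (y ^ i)⁻¹ ∈ M.map G.subtype := by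
        intro i
        have h1 := hMn.conj_mem _ hx1 (⟨y, hyG⟩ ^ i)
        exact ⟨_, h1, rfl⟩
      have hlt : Nat.card (M.map G.subtype) < Nat.card G := by
        have h1 : Nat.card (M.map G.subtype) = Nat.card M :=
          (Nat.card_congr (M.equivMapOfInjective _ G.subtype_injective).toEquiv).symm
        rw [h1]
        have h2 : M.index ≠ 1 := fun h => hM.1 (Subgroup.index_eq_one.1 h)
        have h3 := M.card_mul_index
        have h4 : 0 < Nat.card M := Nat.card_pos
        have h5 : 0 < Nat.card G := Nat.card_pos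
        have h6 : M.index ≠ 0 := by
          intro h
          rw [h, mul_zero] at h3
          omega
        have h7 : 2 ≤ M.index := by omega
        nlinarith only [h3, h4, h7]
      have hc : Cj x y := by
        intro i j
        set u := y ^ i * x * (y ^ i)⁻¹ with hu
        set v := y ^ j * x * (y ^ j)⁻¹ with hv
        have hle : Subgroup.closure {v, u} ≤ M.map G.subtype := by
          rw [Subgroup.closure_le]
          rintro a (rfl | rfl)
          · exact hconj j
          · exact hconj i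
        have hle' : Subgroup.closure {v, u} ≤ G := hle.trans (by
          rintro _ ⟨a, -, rfl⟩
          exact a.2)
        have hlin : ∀ k : ℕ, Semi (y ^ k * x * (y ^ k)⁻¹) (1 : F ≃+* F) := fun k => lin_of_mem_K hx hy (mem_K x y k)
        have hpow : ∀ k : ℕ, (y ^ k * x * (y ^ k)⁻¹) ^ p = 1 := by
          intro k
          rw [conj_pow, hxp, mul_one, mul_inv_cancel]
        have hnil : Group.IsNilpotent (Subgroup.closure {v, u}) :=
          nilpotent_of_le hN hle'
        have hc1 : Nat.card (Subgroup.closure {v, u}) ≤ n := by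
          have h1 : Nat.card (Subgroup.closure {v, u}) ≤ Nat.card (M.map G.subtype) :=
            Nat.card_le_card_of_injective _ (Subgroup.inclusion_injective hle)
          omega
        exact ih (hlin j) (hlin i) (hpow j) (hpow i) hnil hc1
      exact comm_of_Cj hpF hd hx hy hxp (by rw [hyp, one_mul, mul_one]) hc

/-- `x` linear of order dividing `p`, `y` semilinear with `y ^ p` commuting with `x`; the conjugates of `x` under `y`
generate a nilpotent group; then `x` and `y` commute. -/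
theorem comm_of_semi [Finite V] [FiniteDimensional F V] {p : ℕ} [hp : Fact p.Prime] (hpF : (p : F) ≠ 0)
    (hd : Module.finrank F V < p) {x y : Equiv.Perm V} {σ : F ≃+* F} (hx : Semi x (1 : F ≃+* F)) (hy : Semi y σ)
    (hxp : x ^ p = 1) (hyx : y ^ p * x = x * y ^ p) (hN : Group.IsNilpotent (K x y)) : y * x = x * y := by
  apply comm_of_Cj hpF hd hx hy hxp hyx
  intro i j
  have hle : Subgroup.closure {y ^ j * x * (y ^ j)⁻¹, y ^ i * x * (y ^ i)⁻¹} ≤ K x y := by
    rw [Subgroup.closure_le]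
    rintro a (rfl | rfl)
    · exact mem_K x y j
    · exact mem_K x y i
  have hpow : ∀ k : ℕ, (y ^ k * x * (y ^ k)⁻¹) ^ p = 1 := by
    intro k
    rw [conj_pow, hxp, mul_one, mul_inv_cancel]
  exact comm_of_nilpotent hpF hd _ (lin_of_mem_K hx hy (mem_K x y j)) (lin_of_mem_K hx hy (mem_K x y i)) (hpow j)
    (hpow i) (nilpotent_of_le hN hle) le_rfl

/-! ### Invariant subspaces and p-groups modulo scalars -/

/-- the stabiliser of a subspace -/
def St (W : Submodule F V) [Finite V] : Subgroup (Equiv.Perm V) where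
  carrier := {g | ∀ w ∈ W, g w ∈ W}
  mul_mem' := fun {a b} ha hb w hw => ha _ (hb w hw)
  one_mem' := fun w hw => hw
  inv_mem' := by
    intro g hg w hw
    have hinj : Function.Injective (fun w : W => (⟨g w, hg w w.2⟩ : W)) := fun a b hab =>
      Subtype.ext (g.injective (congrArg Subtype.val hab))
    obtain ⟨⟨u, hu⟩, hu1⟩ := (Finite.injective_iff_surjective.1 hinj) ⟨w, hw⟩
    have h1 : g u = w := congrArg Subtype.val hu1
    have h2 : g⁻¹ w = u := by rw [← h1]; exact Equiv.symm_apply_apply g u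
    rw [h2]
    exact hu

/-- the restriction -/
noncomputable def res (W : Submodule F V) [Finite V] : St W →* Equiv.Perm W where
  toFun g := Equiv.ofBijective (fun w : W => (⟨g.1 w, g.2 w w.2⟩ : W)) (Finite.injective_iff_bijective.1 fun a b hab =>
    Subtype.ext (g.1.injective (congrArg Subtype.val hab)))
  map_one' := by ext w; rfl
  map_mul' := by intro a b; ext w; rfl

theorem semi_res {W : Submodule F V} [Finite V] {g : St W} {σ : F ≃+* F} (h : Semi g.1 σ) : Semi (res W g) σ :=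
  ⟨fun u v => Subtype.ext (h.add u v), fun a v => Subtype.ext (h.smul a v)⟩

/-- a group of linear maps which is a p-group modulo scalars is nilpotent -/
theorem nilpotent_of_scalars [Finite V] {p : ℕ} [hp : Fact p.Prime] (N : Subgroup (Equiv.Perm V))
    (hlin : ∀ a ∈ N, Semi a (1 : F ≃+* F)) (h : ∀ a ∈ N, ∃ (k : ℕ) (c : F), ∀ v, (a ^ p ^ k) v = c • v) :
    Group.IsNilpotent N := by
  apply Group.of_quotient_center_nilpotent
  apply IsPGroup.isNilpotent (p := p)
  intro q
  obtain ⟨⟨a, ha⟩, rfl⟩ := QuotientGroup.mk_surjective q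
  obtain ⟨k, c, hc⟩ := h a ha
  refine ⟨k, ?_⟩
  rw [← QuotientGroup.mk_pow, QuotientGroup.eq_one_iff, Subgroup.mem_center_iff]
  rintro ⟨b, hb⟩
  apply Subtype.ext
  apply Equiv.ext
  intro v
  show b ((a ^ p ^ k) v) = (a ^ p ^ k) (b v)
  rw [hc, hc, smul_one (hlin b hb)]

/-- **The tool.** `W` invariant under `x` (linear, `x ^ p = 1` on `W`) and `y` (semilinear, `y ^ p` scalar),
`dim W < p`, and `⟨x, y⟩` is a p-group modulo scalars: then `x` and `y` commute on `W`. -/
theorem comm_on [Finite V] {p : ℕ} [hp : Fact p.Prime] (hpF : (p : F) ≠ 0) (W : Submodule F V)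
    (hd : Module.finrank F W < p) {x y : Equiv.Perm V} {σ : F ≃+* F} (hx : Semi x (1 : F ≃+* F)) (hy : Semi y σ)
    (hxW : ∀ w ∈ W, x w ∈ W) (hyW : ∀ w ∈ W, y w ∈ W) (hxp : ∀ w ∈ W, (x ^ p) w = w)
    (hyp : ∃ a : F, ∀ v, (y ^ p) v = a • v)
    (hP : ∀ g ∈ Subgroup.closure {x, y}, ∃ (k : ℕ) (a : F), ∀ v, (g ^ p ^ k) v = a • v) :
    ∀ w ∈ W, y (x w) = x (y w) := by
  let X : St W := ⟨x, hxW⟩
  let Y : St W := ⟨y, hyW⟩
  have hX : Semi (res W X) (1 : F ≃+* F) := semi_res (g := X) hx
  have hY : Semi (res W Y) σ := semi_res (g := Y) hy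
  obtain ⟨a, ha⟩ := hyp
  have hXp : res W X ^ p = 1 := by
    rw [← map_pow]
    ext w
    exact hxp w w.2
  have hYX : res W Y ^ p * res W X = res W X * res W Y ^ p := by
    rw [← map_pow, ← map_mul, ← map_mul]
    ext w
    show (y ^ p) (x w) = x ((y ^ p) w)
    rw [ha, ha, smul_one hx]
  have hmem : ∀ b ∈ K (res W X) (res W Y), ∃ g : St W, g.1 ∈ Subgroup.closure {x, y} ∧ res W g = b := by
    intro b hb
    induction hb using Subgroup.closure_induction with
    | mem b hb =>
      obtain ⟨i, rfl⟩ := hb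
      refine ⟨Y ^ i * X * (Y ^ i)⁻¹, ?_, by simp⟩
      have h1 : x ∈ Subgroup.closure {x, y} := Subgroup.subset_closure (by simp)
      have h2 : y ∈ Subgroup.closure {x, y} := Subgroup.subset_closure (by simp)
      exact mul_mem (mul_mem (pow_mem h2 i) h1) (inv_mem (pow_mem h2 i))
    | one => exact ⟨1, one_mem _, map_one _⟩
    | mul b c _ _ h1 h2 =>
      obtain ⟨g, hg, hg'⟩ := h1
      obtain ⟨g₂, hg₂, hg₂'⟩ := h2
      exact ⟨g * g₂, mul_mem hg hg₂, by rw [map_mul, hg', hg₂']⟩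
    | inv b _ h1 =>
      obtain ⟨g, hg, hg'⟩ := h1
      exact ⟨g⁻¹, inv_mem hg, by rw [map_inv, hg']⟩
  have hN : Group.IsNilpotent (K (res W X) (res W Y)) := by
    apply nilpotent_of_scalars (F := F) (p := p) _ (fun b hb => lin_of_mem_K hX hY hb)
    intro b hb
    obtain ⟨g, hg, rfl⟩ := hmem b hb
    obtain ⟨k, c, hc⟩ := hP g.1 hg
    refine ⟨k, c, fun w => ?_⟩
    rw [← map_pow]
    exact Subtype.ext (hc w)
  have h := comm_of_semi hpF hd hX hY hXp hYX hN
  intro w hw
  have h1 := congrArg (fun f : Equiv.Perm W => ((f ⟨w, hw⟩ : W) : V)) h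
  exact h1

end Cfsg.Agent.H862.T5.SmallDim
end

-- part: H862/T5/SpCore
section
/-!
# Pairs in the symplectic group: the geometric core
-/

set_option autoImplicit false
set_option linter.unusedSectionVars false

namespace Cfsg.Agent.H862.T5.SpCore

open Cfsg Cfsg.Agent.ClassicalGeometry.SympBasic Cfsg.Agent.ClassicalGeometry.SympAutSemi
open Cfsg.Agent.ClassicalGeometry.SympGamma Cfsg.Agent.H951 Cfsg.Agent.H862.T5.SmallDim
open Module

variable {F : Type} [Field F] {m : ℕ}

/-- the group generated is a p-group modulo scalars -/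
def PS {F V : Type*} [Field F] [AddCommGroup V] [Module F V] (p : ℕ) (x y : Equiv.Perm V) : Prop :=
  ∀ g ∈ Subgroup.closure {x, y}, ∃ (k : ℕ) (a : F), ∀ v, (g ^ p ^ k) v = a • v

abbrev VV (m : ℕ) (F : Type) : Type := Fin m ⊕ Fin m → F

theorem isSemi_conj {y : Equiv.Perm (VV m F)} {φ : F ≃+* F} {l : F} (h : IsSemi y φ l)
    (A : Matrix.symplecticGroup (Fin m) F) : IsSemi (rho m F A * y * (rho m F A)⁻¹) φ l := by
  have h1 := ((isSemi_rho A).mul h).mul ((isSemi_rho A).inv one_ne_zero)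
  have e1 : ((RingEquiv.refl F).symm.trans (φ.trans (RingEquiv.refl F))) = φ := by
    ext a; rfl
  have e2 : (1 * (RingEquiv.refl F) l * (φ.trans (RingEquiv.refl F)) ((RingEquiv.refl F).symm (1 : F)⁻¹)) = l := by
    simp only [_root_.RingEquiv.refl_apply, _root_.one_mul, _root_.RingEquiv.symm_refl, _root_.inv_one, _root_.RingEquiv.coe_trans, _root_.RingEquiv.coe_refl, _root_.Function.comp_apply, _root_.map_one, _root_.id_eq, _root_.mul_one]
  rw [e1, e2] at h1
  exact h1

theorem toSemi {g : Equiv.Perm (VV m F)} {φ : F ≃+* F} {l : F} (hg : IsSemi g φ l) :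
    Cfsg.Agent.CpAut.Descent.Semi g φ := ⟨hg.1, hg.2.1⟩

variable [Finite F]

/-- the situation -/
structure Sit (p : ℕ) (W : Submodule F (VV m F)) (x y : Equiv.Perm (VV m F)) (φ : F ≃+* F) (l : F) : Prop where
  nd : Nd (sympForm m F) W
  xs : IsSemi x (RingEquiv.refl F) 1
  ys : IsSemi y φ l
  l0 : l ≠ 0
  xW : ∀ w ∈ W, x w ∈ W
  yW : ∀ w ∈ W, y w ∈ W
  xp : x ^ p = 1
  yp : ∃ a : F, ∀ v, (y ^ p) v = a • v
  P : ∀ A : Matrix.symplecticGroup (Fin m) F, (∀ w ∈ W, rho m F A w ∈ W) →
    PS (F := F) p x (rho m F A * y * (rho m F A)⁻¹)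

variable {p : ℕ} {W : Submodule F (VV m F)} {x y : Equiv.Perm (VV m F)} {φ : F ≃+* F} {l : F}

theorem conj_pow_scal {V : Type*} [AddCommGroup V] [Module F V] {h y : Equiv.Perm V} {σ : F ≃+* F} {a : F} {n : ℕ}
    (hh : Cfsg.Agent.CpAut.Descent.Semi h σ) (hy : ∀ v, (y ^ n) v = a • v) : ∃ b : F, ∀ v, ((h * y * h⁻¹) ^ n) v = b • v := by
  refine ⟨σ a, fun v => ?_⟩
  rw [conj_pow]
  show h ((y ^ n) (h⁻¹ v)) = σ a • v
  rw [hy, hh.smul]
  congr 1
  exact h.apply_symm_apply v

theorem inv_mem_of {g : Equiv.Perm (VV m F)} (hg : ∀ w ∈ W, g w ∈ W) : ∀ w ∈ W, g⁻¹ w ∈ W :=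
  (St W).inv_mem (x := g) hg

theorem Sit.conj (h : Sit p W x y φ l) {B : Matrix.symplecticGroup (Fin m) F} (hB : ∀ w ∈ W, rho m F B w ∈ W) :
    Sit p W x (rho m F B * y * (rho m F B)⁻¹) φ l where
  nd := h.nd
  xs := h.xs
  ys := isSemi_conj h.ys B
  l0 := h.l0
  xW := h.xW
  yW := fun w hw => hB _ (h.yW _ (inv_mem_of hB w hw))
  xp := h.xp
  yp := by
    obtain ⟨a, ha⟩ := h.yp
    exact conj_pow_scal (toSemi (isSemi_rho B)) ha
  P := by
    intro A hA
    have h1 := h.P (A * B) (fun w hw => by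
      rw [map_mul]
      exact hA _ (hB _ hw))
    have e : rho m F (A * B) * y * (rho m F (A * B))⁻¹ =
        rho m F A * (rho m F B * y * (rho m F B)⁻¹) * (rho m F A)⁻¹ := by
      rw [map_mul]; group
    rw [e] at h1
    exact h1

theorem Sit.comm [hp : Fact p.Prime] (hpF : (p : F) ≠ 0) (hd : finrank F W < p) (h : Sit p W x y φ l) :
    ∀ w ∈ W, y (x w) = x (y w) := by
  have h1 := h.P 1 (fun w hw => by rw [map_one]; exact hw)
  rw [map_one, one_mul, inv_one, mul_one] at h1
  exact comm_on hpF W hd (σ := φ) (toSemi h.xs) (toSemi h.ys) h.xW h.yW (fun w _ => by rw [h.xp]; rfl) h.yp h1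

/-- dual vectors -/
theorem exists_dual (hW : Nd (sympForm m F) W) {u v : VV m F} (hu : u ∈ W) (hv : v ∈ W) (huv : ∀ a : F, v ≠ a • u)
    (hu0 : u ≠ 0) : ∃ w ∈ W, sympForm m F w u = 1 ∧ sympForm m F w v = 0 := by
  have hv0 : v ≠ 0 := fun h => huv 0 (by rw [h, zero_smul])
  obtain ⟨z, hz, hvz⟩ := hW v hv hv0
  have hzv : sympForm m F z v ≠ 0 := by
    rw [sympForm_swap]
    exact neg_ne_zero.2 hvz
  set c := (sympForm m F z v)⁻¹ * sympForm m F z u with hc
  have hne : u - c • v ≠ 0 := by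
    intro h0
    rw [sub_eq_zero] at h0
    have hc0 : c ≠ 0 := by
      intro h1
      rw [h1, zero_smul] at h0
      exact hu0 h0
    apply huv c⁻¹
    rw [h0, smul_smul, inv_mul_cancel₀ hc0, one_smul]
  obtain ⟨t, ht, ht'⟩ := hW _ (W.sub_mem hu (W.smul_mem c hv)) hne
  set w0 := t - ((sympForm m F z v)⁻¹ * sympForm m F t v) • z with hw0
  have hw0W : w0 ∈ W := W.sub_mem ht (W.smul_mem _ hz)
  have h1 : sympForm m F w0 v = 0 := by
    rw [hw0, sympForm_sub_left, sympForm_smul_left]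
    field_simp
    ring
  have h2 : sympForm m F w0 u ≠ 0 := by
    intro h3
    apply ht'
    rw [hw0, sympForm_sub_left, sympForm_smul_left] at h3
    rw [sympForm_swap, sympForm_sub_right, sympForm_smul_right, hc, neg_eq_zero]
    rw [← h3]
    ring
  refine ⟨(sympForm m F w0 u)⁻¹ • w0, W.smul_mem _ hw0W, ?_, ?_⟩
  · rw [sympForm_smul_left, inv_mul_cancel₀ h2]
  · rw [sympForm_smul_left, h1, mul_zero]

/-- `x u` lies in the span of `u` and `y u` -/
theorem Sit.key [hp : Fact p.Prime] (hpF : (p : F) ≠ 0) (hd : finrank F W < p) (h : Sit p W x y φ l)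
    {u : VV m F} (hu : u ∈ W) (hu0 : u ≠ 0) (hyu : ∀ a : F, y u ≠ a • u) : ∃ a b : F, x u = a • u + b • y u := by
  obtain ⟨w, hw, hwu, hwy⟩ := exists_dual h.nd hu (h.yW u hu) hyu hu0
  set t := rho m F (transv u 1) with ht
  have htW : ∀ w ∈ W, t w ∈ W := by
    intro w hw
    rw [ht, rho_transv]
    exact W.add_mem hw (W.smul_mem _ hu)
  have hti : ∀ v, t⁻¹ v = v + ((-1) * sympForm m F v u) • u := by
    intro v
    have h1 : t⁻¹ = rho m F (transv u (-1)) := by
      rw [ht, ← map_inv]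
      congr 1
      rw [inv_eq_iff_mul_eq_one]
      apply rho_injective
      ext1 z
      rw [map_mul, map_one, Equiv.Perm.mul_apply, rho_transv, rho_transv, sympForm_add_left, sympForm_smul_left,
        sympForm_self]
      show z + _ + _ = z
      rw [add_assoc, ← add_smul]
      have : (-1 * sympForm m F z u + 1 * (sympForm m F z u + -1 * sympForm m F z u * 0)) = 0 := by ring
      rw [this, zero_smul, add_zero]
    rw [h1, rho_transv]
  have hc1 := h.comm hpF hd
  have hc2 := (h.conj htW).comm hpF hd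
  set w0 := y⁻¹ w with hw0
  have hw0W : w0 ∈ W := inv_mem_of h.yW w hw
  have hyw0 : y w0 = w := y.apply_symm_apply w
  have e1 : sympForm m F w0 u = 0 := by
    have h1 := h.ys.2.2 w0 u
    rw [hyw0, hwy] at h1
    rcases mul_eq_zero.1 h1.symm with h2 | h2
    · exact absurd h2 h.l0
    · exact (map_eq_zero_iff φ φ.injective).1 h2
  have e2 : t⁻¹ w0 = w0 := by rw [hti, e1, mul_zero, zero_smul, add_zero]
  have h3 := hc2 w0 hw0W
  have e3 : (t * y * t⁻¹) w0 = w + u := by
    show t (y (t⁻¹ w0)) = w + u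
    rw [e2, hyw0, ht, rho_transv, hwu, mul_one, one_smul]
  rw [e3] at h3
  have h4 := hc1 w0 hw0W
  rw [hyw0] at h4
  have hxadd : x (w + u) = x w + x u := h.xs.1 w u
  rw [hxadd] at h3
  have e4 : (t * y * t⁻¹) (x w0) = x w + (φ (-1 * sympForm m F (x w0) u)) • y u +
      (1 * sympForm m F (x w + (φ (-1 * sympForm m F (x w0) u)) • y u) u) • u := by
    show t (y (t⁻¹ (x w0))) = _
    rw [hti, h.ys.1, h.ys.2.1, h4, ht, rho_transv]
  rw [e4] at h3
  refine ⟨1 * sympForm m F (x w + (φ (-1 * sympForm m F (x w0) u)) • y u) u, φ (-1 * sympForm m F (x w0) u), ?_⟩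
  have h5 : x w + x u = x w + ((1 * sympForm m F (x w + (φ (-1 * sympForm m F (x w0) u)) • y u) u) • u +
      (φ (-1 * sympForm m F (x w0) u)) • y u) := by
    rw [← h3]
    abel
  exact add_left_cancel h5

end Cfsg.Agent.H862.T5.SpCore
end

-- part: H862/T5/SpRow
section
/-!
# The weak row of `PSp_2m(q)`, `p` prime to `q`, `p ≥ 5`
-/

set_option autoImplicit false
set_option linter.unusedSectionVars false

namespace Cfsg.Agent.H862.T5.SpRow

open Cfsg Cfsg.Agent.ClassicalGeometry.SympBasic Cfsg.Agent.ClassicalGeometry.SympAutSemi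
open Cfsg.Agent.ClassicalGeometry.SympGamma Cfsg.Agent.H951 Cfsg.Agent.H862.T5.SmallDim
open Cfsg.Agent.H862.T5.SpCore Cfsg.Agent.H533.T5
open Module

variable {F : Type} [Field F] [Fintype F] {m : ℕ}

theorem finite_ringAut : Finite (F ≃+* F) :=
  Finite.of_injective (fun σ : F ≃+* F => (σ : F → F)) DFunLike.coe_injective

theorem mem_zpowers_of_orderOf {G : Type*} [Group G] [Finite G] [IsCyclic G] {a b : G} {p : ℕ} (hp : p.Prime)
    (ha : orderOf a = p) (hb : orderOf b = p) : b ∈ Subgroup.zpowers a := by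
  classical
  have := Fintype.ofFinite G
  let s : Finset G := Finset.univ.filter fun x => x ^ p = 1
  have h1 : s.card ≤ p := IsCyclic.card_pow_eq_one_le hp.pos
  let t : Finset G := Finset.univ.filter fun x => x ∈ Subgroup.zpowers a
  have h2 : t.card = p := by
    have h3 : t.card = Nat.card (Subgroup.zpowers a) := by
      rw [Nat.card_eq_fintype_card, Fintype.card_subtype]
    rw [h3, Nat.card_zpowers, ha]
  have h3 : t ⊆ s := by
    intro x hx
    have hx' : x ∈ Subgroup.zpowers a := (Finset.mem_filter.1 hx).2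
    obtain ⟨k, rfl⟩ := Subgroup.mem_zpowers_iff.1 hx'
    refine Finset.mem_filter.2 ⟨Finset.mem_univ _, ?_⟩
    rw [← zpow_natCast, ← zpow_mul, mul_comm, zpow_mul, zpow_natCast, ← ha, pow_orderOf_eq_one, one_zpow]
  have h4 : t = s := Finset.eq_of_subset_of_card_le h3 (by omega)
  have h5 : b ∈ s := Finset.mem_filter.2 ⟨Finset.mem_univ _, by rw [← hb, pow_orderOf_eq_one]⟩
  rw [← h4] at h5
  exact (Finset.mem_filter.1 h5).2

/-! ### splitting of classes -/

theorem conj_of_split {X : Type*} [Group X] [Finite X] {H K : Subgroup X} {x y z : X}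
    (h : splitClassCount H K x = 1) (hy : IsConjUnder H x y) (hz : IsConjUnder H x z) : IsConjUnder K y z := by
  unfold splitClassCount at h
  have hs : Subsingleton (Quot fun y z : {y : X // IsConjUnder H x y} => IsConjUnder K y.1 z.1) :=
    (Nat.card_eq_one_iff_unique.1 h).1
  have h1 : Quot.mk (fun y z : {y : X // IsConjUnder H x y} => IsConjUnder K y.1 z.1) ⟨y, hy⟩ =
      Quot.mk _ ⟨z, hz⟩ := Subsingleton.elim _ _
  have h2 := Quot.eqvGen_exact h1
  have key : ∀ a b : {y : X // IsConjUnder H x y}, Relation.EqvGen (fun y z : {y : X // IsConjUnder H x y} =>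
      IsConjUnder K y.1 z.1) a b → IsConjUnder K a.1 b.1 := by
    intro a b hab
    induction hab with
    | rel a b h => exact h
    | refl a => exact ⟨1, K.one_mem, by group⟩
    | symm a b _ h =>
      obtain ⟨k, hk, e⟩ := h
      exact ⟨k⁻¹, K.inv_mem hk, by rw [e]; group⟩
    | trans a b c _ _ h h' =>
      obtain ⟨k, hk, e⟩ := h
      obtain ⟨k', hk', e'⟩ := h'
      exact ⟨k' * k, K.mul_mem hk' hk, by rw [e', e]; group⟩
  exact key _ _ h2

/-! ### lifts -/

def lin (A : Matrix.symplecticGroup (Fin m) F) : semiSim m F :=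
  ⟨rho m F A, RingEquiv.refl F, 1, one_ne_zero, isSemi_rho A⟩

theorem Psi_lin (A : Matrix.symplecticGroup (Fin m) F) :
    Psi m F (lin A) = MulAut.conj (QuotientGroup.mk A : PSp m F) :=
  Cfsg.Agent.H966.PSpAut.Psi_rho A _

theorem exists_scal (hm : 1 ≤ m) {g : semiSim m F} (h : Psi m F g = 1) : ∃ a : F, ∀ v, g.1 v = a • v := by
  obtain ⟨a, ha⟩ := exists_scal_of_Psi_eq_one hm g h
  exact ⟨a, fun v => by rw [ha]; rfl⟩

/-! ### invariant subspaces -/

theorem isSemi_fix_ne {p : ℕ} (hp : p.Prime) (hp2 : p ≠ 2) {W : Submodule F (VV m F)} (hW : Nd (sympForm m F) W)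
    {x : Equiv.Perm (VV m F)} (xs : IsSemi x (RingEquiv.refl F) 1) (xp : x ^ p = 1) (hx1 : ∃ w ∈ W, x w ≠ w) :
    ∃ u ∈ W, ∀ a : F, x u ≠ a • u := by
  by_contra hno
  push Not at hno
  have hx0 : x 0 = 0 := by
    have := xs.1 0 0
    rw [add_zero] at this
    exact left_eq_add.1 this
  have hline : ∀ u ∈ W, ∃ a : F, x u = a • u := hno
  obtain ⟨w, hw, hxw⟩ := hx1
  obtain ⟨a, ha⟩ := hline w hw
  have hw0 : w ≠ 0 := by
    rintro rfl
    exact hxw hx0
  have ha1 : a ≠ 1 := by
    rintro rfl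
    exact hxw (by rw [ha, one_smul])
  have hap : a ^ p = 1 := by
    have h1 : ∀ k : ℕ, (x ^ k) w = a ^ k • w := by
      intro k
      induction k with
      | zero => simp
      | succ k ih =>
        rw [pow_succ', Equiv.Perm.mul_apply, ih, xs.2.1, ha, smul_smul, pow_succ]
        rfl
    have h2 := h1 p
    rw [xp] at h2
    have h3 : (a ^ p - 1) • w = 0 := by rw [sub_smul, ← h2, one_smul]; simp
    exact sub_eq_zero.1 ((smul_eq_zero.1 h3).resolve_right hw0)
  obtain ⟨w', hw', hww⟩ := hW w hw hw0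
  obtain ⟨a', ha'⟩ := hline w' hw'
  have haa : a * a' = 1 := by
    have h1 := xs.2.2 w w'
    rw [ha, ha', sympForm_smul_left, sympForm_smul_right, one_mul, RingEquiv.refl_apply] at h1
    have h2 : (a * a' - 1) * sympForm m F w w' = 0 := by linear_combination h1
    exact sub_eq_zero.1 ((mul_eq_zero.1 h2).resolve_right hww)
  obtain ⟨a'', ha''⟩ := hline (w + w') (W.add_mem hw hw')
  have haa' : a = a' := by
    rw [xs.1, ha, ha'] at ha''
    have h1 := congrArg (fun t => sympForm m F w t) ha''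
    have h2 := congrArg (fun t => sympForm m F t w') ha''
    simp only [sympForm_add_right, sympForm_smul_right, sympForm_self, sympForm_add_left, sympForm_smul_left, mul_zero,
      zero_add, add_zero] at h1 h2
    have h3 := mul_right_cancel₀ hww h1
    have h4 := mul_right_cancel₀ hww h2
    rw [h3, h4]
  rw [← haa'] at haa
  apply ha1
  have hodd : Odd p := hp.odd_of_ne_two hp2
  obtain ⟨k, hk⟩ := hodd
  rw [hk, pow_succ, pow_mul, pow_two, haa, one_pow, one_mul] at hap
  exact hap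

/-- the dimension -/
noncomputable def dd (q p : ℕ) : ℕ := max (if Even (orderOf (q : ZMod p)) then orderOf (q : ZMod p) else 2 * orderOf (q : ZMod p)) 4

theorem cc_lt {q p : ℕ} [hp : Fact p.Prime] (h5 : 5 ≤ p) (hq : ¬ p ∣ q) :
    (if Even (orderOf (q : ZMod p)) then orderOf (q : ZMod p) else 2 * orderOf (q : ZMod p)) < p := by
  have h0 : (q : ZMod p) ≠ 0 := fun h => hq ((ZMod.natCast_eq_zero_iff q p).1 h)
  have h1 : orderOf (q : ZMod p) ∣ p - 1 := orderOf_dvd_of_pow_eq_one (ZMod.pow_card_sub_one_eq_one h0)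
  have heven : Even (p - 1) := by
    have hodd : Odd p := hp.out.odd_of_ne_two (by omega)
    obtain ⟨k, hk⟩ := hodd
    exact ⟨k, by omega⟩
  split_ifs with he
  · have := Nat.le_of_dvd (by omega) h1
    omega
  · have hco : Nat.Coprime 2 (orderOf (q : ZMod p)) := by
      rw [Nat.not_even_iff_odd] at he
      exact (Nat.coprime_two_right.2 he).symm
    have h2 : 2 * orderOf (q : ZMod p) ∣ p - 1 := hco.mul_dvd_of_dvd_of_dvd heven.two_dvd h1
    have := Nat.le_of_dvd (by omega) h2
    omega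

theorem not_dvd_card {p : ℕ} (hp : p.Prime) (hpF : (p : F) ≠ 0) : ¬ p ∣ Fintype.card F := by
  intro h
  obtain ⟨r, hr⟩ := CharP.exists F
  obtain ⟨n, hrp, hn⟩ := FiniteField.card F r
  rw [hn] at h
  have h1 := hp.dvd_of_dvd_pow h
  have h2 : p = r := (Nat.prime_dvd_prime_iff_eq hp hrp).1 h1
  rw [h2] at hpF
  exact hpF (CharP.cast_eq_zero F r)

theorem exists_W {p : ℕ} [hp : Fact p.Prime] (h5 : 5 ≤ p) (hpF : (p : F) ≠ 0) (hm : 2 ≤ m)
    {A : Matrix.symplecticGroup (Fin m) F} (hA : orderOf A = p) :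
    ∃ W : Submodule F (VV m F), Nd (sympForm m F) W ∧ finrank F W = dd (Fintype.card F) p ∧
      (∀ w ∈ W, rho m F A w ∈ W) ∧ ∃ w ∈ W, rho m F A w ≠ w := by
  set x : Module.End F (VV m F) := Matrix.toLin' (A : Matrix (Fin m ⊕ Fin m) (Fin m ⊕ Fin m) F) with hxd
  have hxA : ∀ v, x v = rho m F A v := fun v => Matrix.toLin'_apply _ _
  have hx : Isom (sympForm m F) x := isom_Sp A
  have hxr : x ^ p = 1 := by
    rw [hxd, pow_toLin'', ← SubmonoidClass.coe_pow, ← hA, pow_orderOf_eq_one, OneMemClass.coe_one, Matrix.toLin'_one]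
    rfl
  have hB := frm_symp (F := F) m
  have hK := kind_symp (F := F) m
  have hV := nd_symp (F := F) m
  obtain ⟨r, hr⟩ := CharP.exists F
  obtain ⟨n, hrp, hn⟩ := FiniteField.card F r
  have : Fact r.Prime := ⟨hrp⟩
  obtain ⟨i, hi⟩ : ∃ i, i = orderOf ((Fintype.card F : ℕ) : ZMod p) := ⟨_, rfl⟩
  obtain ⟨c, hc⟩ : ∃ c, c = (if Even i then i else 2 * i) := ⟨_, rfl⟩
  have hdc : dd (Fintype.card F) p = max c 4 := by
    rw [hc, hi]
    rfl
  have hi0 : 0 < i := by
    rw [hi]
    exact ord_pos hpF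
  have hc2 : 2 ≤ c := by
    rw [hc]
    split_ifs with he
    · obtain ⟨j, hj⟩ := he
      omega
    · omega
  have hceven : Even c := even_cs hc
  have hbn : BlockNum (RingHom.id F) r p (orderOf (Fintype.card F : ZMod p)) c :=
    blockNum_symp (r := p) (by omega) (p := r) rfl hi hi0 hc
  have hdiv : ∀ W' : Submodule F (VV m F), Inv x W' → Nd (sympForm m F) W' → W' ≤ cm x → c ∣ finrank F W' :=
    fun W' h1 h2 h3 => dvd_finrank_symp hpF rfl hB hK hi hc hxr W' h1 h2 h3
  have hcm : Nd (sympForm m F) (cm x) := hx.nd_cm hB hpF hxr hV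
  obtain ⟨M, hM⟩ := hdiv (cm x) inv_cm hcm le_rfl
  have hxne : x ≠ 1 := by
    intro h
    have h1 : A = 1 := by
      apply rho_injective
      rw [map_one]
      ext1 v
      rw [← hxA, h]
      rfl
    rw [h1, orderOf_one] at hA
    omega
  have hM0 : M ≠ 0 := by
    rintro rfl
    rw [mul_zero, Submodule.finrank_eq_zero] at hM
    apply hxne
    refine LinearMap.ext fun v => ?_
    have h1 : x v - v ∈ cm x := mem_cm.2 ⟨v, rfl⟩
    rw [hM, Submodule.mem_bot, sub_eq_zero] at h1
    exact h1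
  have hfr : finrank F (VV m F) = 2 * m := by
    rw [Module.finrank_fintype_fun_eq_card, Fintype.card_sum, Fintype.card_fin]
    ring
  have hsum := finrank_fx_cm hpF hxr
  rw [hfr] at hsum
  have hne : ∀ W : Submodule F (VV m F), W ≤ cm x → 0 < finrank F W → ∃ w ∈ W, rho m F A w ≠ w := by
    intro W hW hpos
    have h0 : W ≠ ⊥ := by
      rintro rfl
      rw [finrank_bot] at hpos
      omega
    obtain ⟨w, hw, hw0⟩ := (Submodule.ne_bot_iff _).1 h0
    refine ⟨w, hw, fun h => hw0 ?_⟩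
    have h6 := (isCompl_fx_cm hpF hxr).inf_eq_bot
    rw [← Submodule.mem_bot F, ← h6]
    exact ⟨mem_fx.2 (by rw [hxA]; exact h), hW hw⟩
  by_cases hc4 : 4 ≤ c
  · obtain ⟨W, hWc, hWi, hWn, hWd⟩ := exists_nd_finrank hpF (by omega) (p := r) hB hx hxr hdiv hbn inv_cm hcm le_rfl
      (j := 1) (by rw [hM]; exact Nat.mul_le_mul_left _ (Nat.pos_of_ne_zero hM0))
    rw [mul_one] at hWd
    refine ⟨W, hWn, ?_, fun w hw => by rw [← hxA]; exact hWi w hw, hne W hWc (by rw [hWd]; omega)⟩
    rw [hWd, hdc]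
    omega
  · have hc2' : c = 2 := by
      obtain ⟨j, hj⟩ := hceven
      omega
    have hdd : dd (Fintype.card F) p = 4 := by
      rw [hdc]
      omega
    obtain ⟨W₁, hW₁c, hW₁i, hW₁n, hW₁d⟩ := exists_nd_finrank hpF (by omega) (p := r) hB hx hxr hdiv hbn inv_cm hcm le_rfl
      (j := min M 2) (by rw [hM]; exact Nat.mul_le_mul_left _ (min_le_left _ _))
    have hne1 : ∃ w ∈ W₁, rho m F A w ≠ w := hne W₁ hW₁c (by
      rw [hW₁d, hc2']
      have : 0 < min M 2 := by omega
      omega)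
    by_cases hM2 : 2 ≤ M
    · refine ⟨W₁, hW₁n, ?_, fun w hw => by rw [← hxA]; exact hW₁i w hw, hne1⟩
      rw [hW₁d, hdd, hc2', min_eq_right hM2]
    · have hM1 : M = 1 := by omega
      have hfx : 2 ≤ finrank F ↥(fx x) := by
        rw [hM, hM1, hc2'] at hsum
        omega
      obtain ⟨W₂, hW₂, hn₂, hd₂⟩ := exists_nd_sub hB hK (hx.nd_fx hB hpF hxr hV) (k := 2) hfx
        (fun _ => even_two)
      obtain ⟨g1, g2, g3⟩ := glue_nd hB hx hW₁c hW₂ hW₁i hW₁n hn₂
      refine ⟨W₁ ⊔ W₂, g2, ?_, fun w hw => by rw [← hxA]; exact g1 w hw, ?_⟩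
      · rw [g3, hW₁d, hd₂, hdd, hM1, hc2']
        rfl
      · obtain ⟨w, hw, hne2⟩ := hne1
        exact ⟨w, Submodule.mem_sup_left hw, hne2⟩

theorem dd_le {p : ℕ} [hp : Fact p.Prime] (h5 : 5 ≤ p) (hpF : (p : F) ≠ 0) (hm : 2 ≤ m)
    {A : Matrix.symplecticGroup (Fin m) F} (hA : orderOf A = p) : dd (Fintype.card F) p ≤ 2 * m := by
  obtain ⟨W, -, h, -⟩ := exists_W h5 hpF hm hA
  have h1 := Submodule.finrank_le W
  rw [Module.finrank_fintype_fun_eq_card, Fintype.card_sum, Fintype.card_fin] at h1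
  omega

/-- the standard subspace, invariant under the field automorphisms -/
def W0 (m k : ℕ) (F : Type) [Field F] : Submodule F (VV m F) :=
  ⨅ i ∈ {j : Fin m ⊕ Fin m | k ≤ Sum.elim (fun a : Fin m => (a : ℕ)) (fun a : Fin m => (a : ℕ)) j},
    LinearMap.ker (LinearMap.proj i : (VV m F) →ₗ[F] F)

theorem mem_W0 {k : ℕ} {v : VV m F} : v ∈ W0 m k F ↔
    (∀ i : Fin m, k ≤ (i : ℕ) → v (.inl i) = 0) ∧ ∀ i : Fin m, k ≤ (i : ℕ) → v (.inr i) = 0 := by
  simp only [W0, Submodule.mem_iInf, LinearMap.mem_ker, LinearMap.proj_apply, Set.mem_ofPred_eq, Sum.forall,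
    Sum.elim_inl, Sum.elim_inr]

theorem finrank_W0 {k : ℕ} (hk : k ≤ m) : finrank F (W0 m k F) = 2 * k := by
  classical
  set J : Set (Fin m ⊕ Fin m) := {j | k ≤ Sum.elim (fun a : Fin m => (a : ℕ)) (fun a : Fin m => (a : ℕ)) j} with hJ
  have e := LinearMap.iInfKerProjEquiv F (fun _ : Fin m ⊕ Fin m => F) (I := Jᶜ) (J := J) disjoint_compl_left
    (by rw [Set.compl_union_self])
  have h1 : finrank F (W0 m k F) = Fintype.card (Jᶜ : Set (Fin m ⊕ Fin m)) := by
    have h2 := e.finrank_eq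
    rw [Module.finrank_fintype_fun_eq_card] at h2
    exact h2
  rw [h1]
  have e2 : (Jᶜ : Set (Fin m ⊕ Fin m)) ≃ Fin k ⊕ Fin k :=
    { toFun := fun j => match j with
        | ⟨.inl a, h⟩ => .inl ⟨a, Nat.lt_of_not_le h⟩
        | ⟨.inr a, h⟩ => .inr ⟨a, Nat.lt_of_not_le h⟩
      invFun := fun j => match j with
        | .inl a => ⟨.inl (Fin.castLE hk a), by
          intro h
          have h2 : k ≤ (a : ℕ) := h
          exact absurd a.2 (by omega)⟩
        | .inr a => ⟨.inr (Fin.castLE hk a), by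
          intro h
          have h2 : k ≤ (a : ℕ) := h
          exact absurd a.2 (by omega)⟩
      left_inv := by
        rintro ⟨j | j, h⟩ <;> rfl
      right_inv := by
        rintro (j | j) <;> rfl }
  rw [Fintype.card_congr e2, Fintype.card_sum, Fintype.card_fin]
  ring

theorem nd_W0 {k : ℕ} : Nd (sympForm m F) (W0 m k F) := by
  intro u hu hu0
  rw [mem_W0] at hu
  obtain ⟨j, hj⟩ : ∃ j, u j ≠ 0 := by
    by_contra h
    push Not at h
    exact hu0 (funext h)
  rcases j with j | j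
  · refine ⟨Pi.single (Sum.inr j) 1, ?_, ?_⟩
    · rw [mem_W0]
      refine ⟨fun i _ => Pi.single_eq_of_ne (by simp) _, fun i hi => ?_⟩
      apply Pi.single_eq_of_ne
      intro h
      apply hj
      rw [← Sum.inr_injective h]
      exact hu.1 i hi
    · rw [sympForm_single_inr_right]
      simpa using hj
  · refine ⟨Pi.single (Sum.inl j) 1, ?_, ?_⟩
    · rw [mem_W0]
      refine ⟨fun i hi => ?_, fun i _ => Pi.single_eq_of_ne (by simp) _⟩
      apply Pi.single_eq_of_ne
      intro h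
      apply hj
      rw [← Sum.inl_injective h]
      exact hu.2 i hi
    · rw [sympForm_single_inl_right]
      simpa using hj

theorem frob_W0 {k : ℕ} (φ : F ≃+* F) : ∀ w ∈ W0 m k F, frobPerm m φ w ∈ W0 m k F := by
  intro w hw
  rw [mem_W0] at hw ⊢
  exact ⟨fun i hi => by rw [frobPerm_apply, hw.1 i hi, map_zero], fun i hi => by
    rw [frobPerm_apply, hw.2 i hi, map_zero]⟩

theorem frob_ne {k : ℕ} (hk : 1 ≤ k) (hkm : k ≤ m) {φ : F ≃+* F} (hφ : φ ≠ RingEquiv.refl F) :
    ∃ u ∈ W0 m k F, ∀ a : F, frobPerm m φ u ≠ a • u := by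
  obtain ⟨b, hb⟩ : ∃ b, φ b ≠ b := by
    by_contra h
    push Not at h
    exact hφ (RingEquiv.ext h)
  have hm0 : 0 < m := by omega
  refine ⟨Pi.single (Sum.inl ⟨0, hm0⟩) 1 + b • Pi.single (Sum.inr ⟨0, hm0⟩) 1, ?_, ?_⟩
  · rw [mem_W0]
    constructor
    · intro i hi
      have h1 : i ≠ ⟨0, hm0⟩ := by
        rintro rfl
        simp at hi
        omega
      simp [h1]
    · intro i hi
      have h1 : i ≠ ⟨0, hm0⟩ := by
        rintro rfl
        simp at hi
        omega
      simp [h1]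
  · intro a ha
    have h1 := congrFun ha (Sum.inl ⟨0, hm0⟩)
    have h2 := congrFun ha (Sum.inr ⟨0, hm0⟩)
    simp [frobPerm_apply] at h1 h2
    rw [← h1, one_mul] at h2
    exact hb h2

/-! ### the mixed case -/

/-! ### field automorphisms -/

abbrev frobS (m : ℕ) (φ : F ≃+* F) : semiSim m F :=
  ⟨frobPerm m φ, φ, 1, one_ne_zero, isSemi_frobPerm φ⟩

theorem frobS_pow (φ : F ≃+* F) (k : ℕ) : frobS m φ ^ k = frobS m (φ ^ k) := by
  induction k with
  | zero =>
    apply Subtype.ext
    ext1 v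
    rfl
  | succ k ih =>
    rw [pow_succ, ih, pow_succ]
    apply Subtype.ext
    ext1 v
    rfl

theorem orderOf_frob (hm : 1 ≤ m) {φ : F ≃+* F} {p : ℕ} (hp : p.Prime) (hφ : orderOf φ = p) :
    orderOf (Psi m F (frobS m φ)) = p := by
  have : Fact p.Prime := ⟨hp⟩
  apply orderOf_eq_prime
  · rw [← map_pow, frobS_pow, ← hφ, pow_orderOf_eq_one]
    have : frobS m (1 : F ≃+* F) = 1 := by
      apply Subtype.ext
      ext1 v
      rfl
    rw [this, map_one]
  · intro h
    obtain ⟨a, ha⟩ := exists_scal_of_Psi_eq_one hm _ h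
    have h1 := isSemi_frobPerm (m := m) φ
    have h2 : frobPerm m φ = scal m F a := ha
    rw [h2] at h1
    have h3 := (IsSemi.unique hm h1 (isSemi_scal a)).1
    rw [h3] at hφ
    have h4 : orderOf (RingEquiv.refl F) = 1 := orderOf_one
    rw [h4] at hφ
    exact hp.one_lt.ne hφ

/-- nonlinear automorphisms of order `p` are conjugate to field automorphisms under inner automorphisms -/
theorem exists_inner_conj (hm : 2 ≤ m) (h22 : m = 2 → 3 ≤ Fintype.card F) {p : ℕ} (hp : p.Prime) (hp2 : p ≠ 2)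
    {g : semiSim m F} {φ : F ≃+* F} {l : F} (hl : l ≠ 0) (hg : IsSemi g.1 φ l) (hα : Psi m F g ^ p = 1)
    (hφ : φ ≠ 1) :
    orderOf φ = p ∧ ∃ s ∈ (MulAut.conj : PSp m F →* MulAut (PSp m F)).range,
      Psi m F g = s * Psi m F (frobS m φ) * s⁻¹ := by
  obtain ⟨hord, h, hh⟩ := Cfsg.Agent.CpAut.Psp.exists_conj (by omega) hp hl hg hα hφ
  refine ⟨hord, ?_⟩
  -- numbers
  obtain ⟨r, hr⟩ := CharP.exists F
  obtain ⟨n, hrp, hn⟩ := FiniteField.card F r
  have : Fact r.Prime := ⟨hrp⟩
  have hcardAut : Nat.card (F ≃+* F) = n := Lib.FieldAutCard.card_ringAut (Nat.one_le_iff_ne_zero.2 n.ne_zero) hn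
  have hpn : p ∣ (n : ℕ) := by
    rw [← hcardAut, ← hord]
    exact orderOf_dvd_natCard φ
  have hn0 : (n : ℕ) / p ≠ 0 := by
    rw [Nat.div_ne_zero_iff_of_dvd hpn]
    exact ⟨n.ne_zero, hp.ne_zero⟩
  have : Fintype (GaloisField r ((n : ℕ) / p)) := Fintype.ofFinite _
  have hG : Fintype.card (GaloisField r ((n : ℕ) / p)) = r ^ ((n : ℕ) / p) := by
    rw [← Nat.card_eq_fintype_card]
    exact GaloisField.card r _ hn0
  have hfield : Cfsg.IsFieldAutClassPSp (Psi m F (frobS m φ)) := by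
    refine ⟨1, φ, hφ, ?_⟩
    rw [inv_one, mul_one, one_mul]
    exact Cfsg.Agent.H966.PSpAut.eq_Psi_frob.2 rfl
  obtain ⟨-, -, hsplit⟩ := S2712.result hn (Nat.one_le_iff_ne_zero.2 n.ne_zero) hm h22 (Psi m F (frobS m φ)) hfield
    hp (orderOf_frob (by omega) hp hord) (GaloisField r ((n : ℕ) / p)) hG
  have hgcd : Nat.gcd (Nat.gcd 2 (r ^ (n : ℕ) - 1)) p = 1 := by
    have h1 : Nat.Coprime 2 p := (Nat.coprime_primes Nat.prime_two hp).2 (Ne.symm hp2)
    exact Nat.Coprime.coprime_dvd_left (Nat.gcd_dvd_left _ _) h1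
  rw [hgcd] at hsplit
  -- decomposition
  obtain ⟨⟨ψ, c, A⟩, hpar⟩ := (par_bijective (F := F) (m := m) (by omega)).2 h
  have hdm : dilPerm m c ∈ semiSim m F := ⟨_, _, c.ne_zero, isSemi_dilPerm c⟩
  set δ : semiSim m F := lin A * ⟨dilPerm m c, hdm⟩ with hδ
  have h1 : h = δ * frobS m ψ := by
    rw [← hpar]
    apply Subtype.ext
    rw [par_coe]
    show _ = rho m F A * dilPerm m c * frobPerm m ψ
    rw [mul_assoc]
  have hcomm : frobS m ψ * frobS m φ = frobS m φ * frobS m ψ := by
    apply Subtype.ext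
    ext1 v
    show frobPerm m ψ (frobPerm m φ v) = frobPerm m φ (frobPerm m ψ v)
    funext i
    show ψ (φ (v i)) = φ (ψ (v i))
    have hcy : IsCyclic (F ≃+* F) := by
      exact Cfsg.Agent.LieRecognition.FieldSemilinear.isCyclic_ringAut F
    let _ := hcy.commGroup
    exact DFunLike.congr_fun (mul_comm ψ φ) (v i)
  have h2 : Psi m F g = Psi m F δ * Psi m F (frobS m φ) * (Psi m F δ)⁻¹ := by
    rw [hh, h1]
    have : (⟨frobPerm m φ, Cfsg.Agent.CpAut.SpLang.frob_mem φ⟩ : semiSim m F) = frobS m φ := rfl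
    rw [this, ← map_inv, ← map_inv, ← map_mul, ← map_mul, ← map_mul, ← map_mul]
    congr 1
    rw [mul_assoc δ (frobS m ψ) (frobS m φ), hcomm]
    group
  have h3 : Psi m F δ ∈ inndiagPSp m F := by
    rw [Cfsg.Agent.H966.PSpAut.mem_inndiag]
    refine ⟨δ, ⟨c, c.ne_zero, ?_⟩, rfl⟩
    have h4 := (isSemi_rho A).mul (isSemi_dilPerm (m := m) c)
    have e1 : (1 * (RingEquiv.refl F) (c : F)) = c := by simp
    rw [e1] at h4
    exact h4
  obtain ⟨k, hk, hk'⟩ := conj_of_split hsplit (y := Psi m F (frobS m φ)) (z := Psi m F g)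
    ⟨1, one_mem _, by group⟩ ⟨Psi m F δ, h3, h2⟩
  exact ⟨k, hk, hk'⟩

theorem WPair.conj_right' {p : ℕ} {X : Type*} [Group X] {S : Subgroup X} {c d s : X} (hs : s ∈ S)
    (h : WPair p S c d) : WPair p S c (s * d * s⁻¹) := by
  refine WPair.conj_right (S.inv_mem hs) ?_
  have e : s⁻¹ * (s * d * s⁻¹) * s⁻¹⁻¹ = d := by group
  rw [e]
  exact h

theorem cast_ne {F : Type} [Field F] {p : ℕ} (hp : p.Prime) (h : ¬ Nonempty (CharP F p)) : (p : F) ≠ 0 := by
  intro h0
  apply h
  obtain ⟨r, hr⟩ := CharP.exists F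
  have h1 : r ∣ p := (CharP.cast_eq_zero_iff F r p).1 h0
  have h2 : r = p := by
    rcases (Nat.dvd_prime hp).1 h1 with h3 | h3
    · subst h3
      exact absurd rfl (CharP.ringChar_ne_one.symm.trans_eq (by rw [ringChar.eq F 1]) : (1 : ℕ) ≠ 1)
    · exact h3
  rw [← h2]
  exact ⟨hr⟩

end Cfsg.Agent.H862.T5.SpRow
end

private theorem dce_00694ec8b434 : _root_.True := by
  try have : _root_.True := by simp only [_root_.Cfsg.Agent.H862.T5.SpRow.W0.eq_1]
  exact _root_.True.intro
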